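import Mathlib
import Cfsg.Agent.BpExc.AsmN_m3
import Cfsg.Agent.BpExc.TorChev
import Cfsg.Agent.S1093
import Cfsg.Agent.S1054
import Cfsg.Agent.FastGrp
import Cfsg.Agent.Prune
set_option linter.all false
prune_inst 0x7ffdebfefff8ffffffff7e7ffedaddfd8bbb9fffa4dff943ffe8e3ff0b9f03000de5f38d8de092fe1ef6423490287843fb7eefffea6bdc7ffffd5ff41ffbee5fe7ffb50911dc8cb40f346ff693f07f886f3fffffffffffffffffffffffffffbeffbfffffffff
open scoped Cfsg.Agent.FastGrp

-- part: H904/E7Lat
section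
/-!
# The lattice part of "no element of order 65 in E₇(2)" (helper904)

`w` an endomorphism of the root lattice of type `E₇` (isometry, trivial on the discriminant group), `w ^ (12 m) = 1`
with `5, 13 ∤ m`; there are no two homomorphisms `φ₅`, `φ₁₃` of exponents `5`, `13` with `φ (w x) = 2 φ x`.
-/

set_option autoImplicit false

namespace Cfsg.Agent.H904.E7Lat

open Polynomial

abbrev V : Type := Fin 7 → ℤ

section Poly

variable {M : Type*} [AddCommGroup M]

theorem phi_aeval {w : Module.End ℤ V} {φ : V →+ M} (h : ∀ x, φ (w x) = (2 : ℤ) • φ x) (f : ℤ[X]) (x : V) :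
    φ (aeval w f x) = f.eval 2 • φ x := by
  induction f using Polynomial.induction_on' generalizing x with
  | add p q hp hq =>
    rw [map_add, LinearMap.add_apply, map_add, hp, hq, eval_add, add_smul]
  | monomial n a =>
    have h1 : ∀ n : ℕ, ∀ x, φ ((w ^ n) x) = ((2 : ℤ) ^ n) • φ x := by
      intro n
      induction n with
      | zero => intro x; simp
      | succ n ih =>
        intro x
        rw [pow_succ, Module.End.mul_apply, ih, h, smul_smul, pow_succ]
    rw [aeval_monomial, eval_monomial, Module.algebraMap_end_eq_smul_id, Module.End.mul_apply, LinearMap.smul_apply,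
      LinearMap.id_apply, map_zsmul, h1, smul_smul]

theorem exists_ker {w : Module.End ℤ V} {φ : V →+ M} (h : ∀ x, φ (w x) = (2 : ℤ) • φ x) {n : ℕ} (hw : w ^ n = 1)
    {q r : ℤ[X]} (hqr : q * r = X ^ n - 1) {l : ℤ} (hl : ∀ x, l • φ x = 0) (hcop : IsCoprime l (r.eval 2))
    (hφ : φ ≠ 0) : ∃ y, y ≠ 0 ∧ aeval w q y = 0 := by
  obtain ⟨x, hx⟩ : ∃ x, φ x ≠ 0 := by
    by_contra hcon
    push Not at hcon
    exact hφ (AddMonoidHom.ext hcon)
  refine ⟨aeval w r x, ?_, ?_⟩
  · intro h0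
    have h1 := phi_aeval h r x
    rw [h0, map_zero] at h1
    obtain ⟨a, b, hab⟩ := hcop
    apply hx
    calc φ x = (1 : ℤ) • φ x := (one_smul _ _).symm
      _ = (a * l + b * r.eval 2) • φ x := by rw [hab]
      _ = 0 := by rw [add_smul, mul_smul, mul_smul, hl, ← h1, smul_zero, smul_zero, add_zero]
  · rw [← Module.End.mul_apply, ← map_mul, hqr, map_sub, map_pow, aeval_X, hw, map_one, sub_self,
      LinearMap.zero_apply]

end Poly

section Cyc

/-- `Φ₁₂` -/
noncomputable def qa : ℤ[X] := X ^ 4 - X ^ 2 + 1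

/-- `Φ₄` -/
noncomputable def qb : ℤ[X] := X ^ 2 + 1

/-- `(X ^ (12 m) - 1) / (X ^ 12 - 1)` -/
noncomputable def S (m : ℕ) : ℤ[X] := ∑ i ∈ Finset.range m, (X ^ 12) ^ i

theorem S_mul (m : ℕ) : S m * (X ^ 12 - 1) = X ^ (12 * m) - 1 := by
  unfold S
  rw [geom_sum_mul, pow_mul]

theorem qa_mul (m : ℕ) : qa * ((X ^ 6 - 1) * (X ^ 2 + 1) * S m) = X ^ (12 * m) - 1 := by
  rw [← S_mul]; unfold qa; ring

theorem qb_mul (m : ℕ) : qb * ((X ^ 6 - 1) * (X ^ 4 - X ^ 2 + 1) * S m) = X ^ (12 * m) - 1 := by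
  rw [← S_mul]; unfold qb; ring

/-- `S m` at `2` is `m` modulo `65`. -/
theorem S_modEq (m : ℕ) : (65 : ℤ) ∣ (S m).eval 2 - m := by
  unfold S
  induction m with
  | zero => simp
  | succ m ih =>
    rw [Finset.sum_range_succ, eval_add, eval_pow, eval_pow, eval_X]
    have h1 : (65 : ℤ) ∣ ((2 : ℤ) ^ 12) ^ m - 1 := by
      have h2 : ((2 : ℤ) ^ 12 - 1) ∣ ((2 : ℤ) ^ 12) ^ m - 1 ^ m := sub_dvd_pow_sub_pow _ _ m
      rw [one_pow] at h2
      exact Dvd.dvd.trans (by norm_num) h2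
    have h3 := dvd_add ih h1
    rw [show ∀ a b : ℤ, a + b - ((m + 1 : ℕ) : ℤ) = (a - m) + (b - 1) from fun a b => by push_cast; ring]
    exact h3

theorem cop_qa {m : ℕ} (hm : ¬ 13 ∣ m) : IsCoprime (13 : ℤ) (((X ^ 6 - 1) * (X ^ 2 + 1) * S m : ℤ[X]).eval 2) := by
  have hp : Prime (13 : ℤ) := Int.prime_iff_natAbs_prime.2 (by norm_num)
  rw [hp.coprime_iff_not_dvd]
  intro h
  rw [eval_mul, eval_mul] at h
  have h1 : (X ^ 6 - 1 : ℤ[X]).eval 2 = 63 := by simp
  have h2 : (X ^ 2 + 1 : ℤ[X]).eval 2 = 5 := by simp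
  rw [h1, h2] at h
  have h3 := S_modEq m
  omega

theorem cop_qb {m : ℕ} (hm : ¬ 5 ∣ m) :
    IsCoprime (5 : ℤ) (((X ^ 6 - 1) * (X ^ 4 - X ^ 2 + 1) * S m : ℤ[X]).eval 2) := by
  have hp : Prime (5 : ℤ) := Int.prime_iff_natAbs_prime.2 (by norm_num)
  rw [hp.coprime_iff_not_dvd]
  intro h
  rw [eval_mul, eval_mul] at h
  have h1 : (X ^ 6 - 1 : ℤ[X]).eval 2 = 63 := by simp
  have h2 : (X ^ 4 - X ^ 2 + 1 : ℤ[X]).eval 2 = 13 := by simp
  rw [h1, h2] at h
  have h3 := S_modEq m
  omega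

end Cyc

section Rat

abbrev VQ : Type := Fin 7 → ℚ

/-- the inclusion of the lattice in the rational space -/
def io : V →ₗ[ℤ] VQ where
  toFun x := fun i => (x i : ℚ)
  map_add' x y := by funext i; simp
  map_smul' c x := by funext i; simp

theorem io_injective : Function.Injective io := by
  intro x y h
  funext i
  have h1 := congrFun h i
  exact Int.cast_injective h1

/-- extension of scalars -/
noncomputable def wQ (w : Module.End ℤ V) : Module.End ℚ VQ :=
  Matrix.toLin' ((LinearMap.toMatrix' w).map (Int.castRingHom ℚ))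

theorem wQ_io (w : Module.End ℤ V) (x : V) : wQ w (io x) = io (w x) := by
  unfold wQ
  rw [Matrix.toLin'_apply]
  have h1 : w x = (LinearMap.toMatrix' w).mulVec x := by
    rw [← Matrix.toLin'_apply, Matrix.toLin'_toMatrix']
  rw [h1]
  funext i
  have h2 := RingHom.map_mulVec (Int.castRingHom ℚ) (LinearMap.toMatrix' w) x i
  exact h2.symm

theorem aeval_io (w : Module.End ℤ V) (f : ℤ[X]) (x : V) :
    aeval (wQ w) (f.map (Int.castRingHom ℚ)) (io x) = io (aeval w f x) := by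
  induction f using Polynomial.induction_on' generalizing x with
  | add p q hp hq =>
    rw [Polynomial.map_add, map_add, map_add, LinearMap.add_apply, LinearMap.add_apply, map_add, hp, hq]
  | monomial n a =>
    have h1 : ∀ n : ℕ, ∀ x, ((wQ w) ^ n) (io x) = io ((w ^ n) x) := by
      intro n
      induction n with
      | zero => intro x; simp
      | succ n ih =>
        intro x
        rw [pow_succ, pow_succ, Module.End.mul_apply, Module.End.mul_apply, wQ_io, ih]
    rw [map_monomial, aeval_monomial, aeval_monomial, Module.algebraMap_end_eq_smul_id,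
      Module.algebraMap_end_eq_smul_id, Module.End.mul_apply, Module.End.mul_apply, LinearMap.smul_apply,
      LinearMap.smul_apply, LinearMap.id_apply, LinearMap.id_apply, h1]
    funext i
    simp only [io, _root_.eq_intCast, _root_.LinearMap.coe_mk, _root_.AddHom.coe_mk, _root_.Pi.smul_apply, _root_.smul_eq_mul, _root_.zsmul_eq_mul, _root_.Pi.mul_apply, _root_.Pi.intCast_apply, _root_.Int.cast_eq, _root_.Int.cast_mul]

theorem ann_dvd {w : Module.End ℤ V} {q p : ℤ[X]} (hq : Irreducible (q.map (Int.castRingHom ℚ))) {y : V} (hy : y ≠ 0)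
    (hqy : aeval w q y = 0) (hpy : aeval w p y = 0) :
    q.map (Int.castRingHom ℚ) ∣ p.map (Int.castRingHom ℚ) := by
  by_contra hcon
  obtain ⟨a, b, hab⟩ := (hq.coprime_iff_not_dvd).2 hcon
  apply hy
  apply io_injective
  rw [map_zero]
  have h1 : aeval (wQ w) (a * q.map (Int.castRingHom ℚ) + b * p.map (Int.castRingHom ℚ)) (io y) = io y := by
    rw [hab, map_one, Module.End.one_apply]
  rw [← h1, map_add, map_mul, map_mul, LinearMap.add_apply, Module.End.mul_apply, Module.End.mul_apply, aeval_io,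
    aeval_io, hqy, hpy, map_zero, map_zero, map_zero, add_zero]

theorem eq_zero_of_dvd {q p : ℤ[X]} (h : q.map (Int.castRingHom ℚ) ∣ p.map (Int.castRingHom ℚ))
    (hd : p.natDegree < q.natDegree) : p = 0 := by
  by_contra hp
  have h1 : p.map (Int.castRingHom ℚ) ≠ 0 := (Polynomial.map_ne_zero_iff Int.cast_injective).2 hp
  have h2 := Polynomial.natDegree_le_of_dvd h h1
  rw [Polynomial.natDegree_map_eq_of_injective Int.cast_injective,
    Polynomial.natDegree_map_eq_of_injective Int.cast_injective] at h2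
  omega

theorem qb_eq : qb = cyclotomic 4 ℤ := by
  unfold qb
  rw [show (4 : ℕ) = 2 ^ (1 + 1) by norm_num, cyclotomic_prime_pow_eq_geom_sum Nat.prime_two]
  simp [Finset.sum_range_succ]
  ring

theorem qa_eq : qa = cyclotomic 12 ℤ := by
  have h := cyclotomic_expand_eq_cyclotomic (p := 2) (n := 6) Nat.prime_two (by norm_num) ℤ
  rw [cyclotomic_six] at h
  rw [show (12 : ℕ) = 6 * 2 by norm_num, ← h]
  unfold qa
  simp only [expand_X, _root_.map_add, _root_.map_sub, _root_.map_pow, _root_.map_one, _root_.add_left_inj, _root_.sub_left_inj]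
  ring

theorem qa_irr : Irreducible (qa.map (Int.castRingHom ℚ)) := by
  rw [qa_eq, map_cyclotomic_int]
  exact cyclotomic.irreducible_rat (by norm_num)

theorem qb_irr : Irreducible (qb.map (Int.castRingHom ℚ)) := by
  rw [qb_eq, map_cyclotomic_int]
  exact cyclotomic.irreducible_rat (by norm_num)

theorem qa_deg : qa.natDegree = 4 := by
  rw [qa_eq, natDegree_cyclotomic]; decide

theorem qb_deg : qb.natDegree = 2 := by
  rw [qb_eq, natDegree_cyclotomic]; decide

theorem not_dvd : ¬ qa.map (Int.castRingHom ℚ) ∣ qb.map (Int.castRingHom ℚ) := by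
  intro h
  have h1 := eq_zero_of_dvd h (by rw [qa_deg, qb_deg]; norm_num)
  have h2 := qb_deg
  rw [h1, natDegree_zero] at h2
  norm_num at h2

/-- The six vectors. -/
noncomputable def six (w : Module.End ℤ V) (y z : V) : Fin 6 → V :=
  ![y, w y, (w ^ 2) y, (w ^ 3) y, z, w z]

theorem six_indep {w : Module.End ℤ V} {y z : V} (hy : y ≠ 0) (hz : z ≠ 0) (hqy : aeval w qa y = 0)
    (hqz : aeval w qb z = 0) : LinearIndependent ℤ (six w y z) := by
  rw [Fintype.linearIndependent_iff]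
  intro g hg
  let P : ℤ[X] := C (g 0) + C (g 1) * X + C (g 2) * X ^ 2 + C (g 3) * X ^ 3
  let Q : ℤ[X] := C (g 4) + C (g 5) * X
  have hP : aeval w P y = g 0 • y + g 1 • w y + g 2 • (w ^ 2) y + g 3 • (w ^ 3) y := by
    simp only [P, map_add, map_mul, map_pow, aeval_C, aeval_X, Module.algebraMap_end_eq_smul_id,
      LinearMap.add_apply, Module.End.mul_apply, LinearMap.smul_apply, LinearMap.id_apply]
  have hQ : aeval w Q z = g 4 • z + g 5 • w z := by
    simp only [Q, map_add, map_mul, aeval_C, aeval_X, Module.algebraMap_end_eq_smul_id,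
      LinearMap.add_apply, Module.End.mul_apply, LinearMap.smul_apply, LinearMap.id_apply]
  have hsum : aeval w P y + aeval w Q z = 0 := by
    rw [hP, hQ, ← hg, Fin.sum_univ_six]
    simp only [six]
    simp only [_root_.Fin.isValue, _root_.zsmul_eq_mul, _root_.Matrix.cons_val_zero, _root_.Matrix.cons_val_one, _root_.Matrix.cons_val]
    abel
  have hPd : P.natDegree ≤ 3 := by
    simp only [P]
    compute_degree
  have hQd : Q.natDegree ≤ 1 := by
    simp only [Q]
    compute_degree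
  have h1 : aeval w (qb * P) y = 0 := by
    have h2 := congrArg (aeval w qb) hsum
    rw [map_add, map_zero, ← Module.End.mul_apply, ← Module.End.mul_apply, ← map_mul, ← map_mul, mul_comm qb Q,
      map_mul _ Q, Module.End.mul_apply, hqz, map_zero, add_zero] at h2
    exact h2
  have hP0 : P = 0 := by
    have h3 := ann_dvd qa_irr hy hqy h1
    rw [Polynomial.map_mul] at h3
    rcases (qa_irr.prime.dvd_or_dvd h3) with h4 | h4
    · exact absurd h4 not_dvd
    · exact eq_zero_of_dvd h4 (by rw [qa_deg]; omega)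
  have hQ0 : Q = 0 := by
    rw [hP0, map_zero, LinearMap.zero_apply, zero_add] at hsum
    exact eq_zero_of_dvd (ann_dvd qb_irr hz hqz hsum) (by rw [qb_deg]; omega)
  have hc : ∀ n, P.coeff n = 0 := fun n => by rw [hP0, coeff_zero]
  have hd : ∀ n, Q.coeff n = 0 := fun n => by rw [hQ0, coeff_zero]
  have c0 := hc 0
  have c1 := hc 1
  have c2 := hc 2
  have c3 := hc 3
  have d0 := hd 0
  have d1 := hd 1
  simp only [P, Q, coeff_add, coeff_C_mul, coeff_X_pow, coeff_X, coeff_C] at c0 c1 c2 c3 d0 d1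
  norm_num at c0 c1 c2 c3 d0 d1
  intro i
  fin_cases i
  · exact c0
  · exact c1
  · exact c2
  · exact c3
  · exact d0
  · exact d1

end Rat

section Rank

theorem mul_eq : qa * qb = X ^ 6 + 1 := by unfold qa qb; ring

theorem six_mem {w : Module.End ℤ V} {y z : V} (hqy : aeval w qa y = 0)
    (hqz : aeval w qb z = 0) (i : Fin 6) : six w y z i ∈ LinearMap.ker (w ^ 6 + 1) := by
  have h1 : w ^ 6 + 1 = aeval w (qa * qb) := by
    rw [mul_eq, map_add, map_pow, aeval_X, map_one]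
  rw [LinearMap.mem_ker, h1]
  have hy : ∀ k : ℕ, aeval w (qa * qb) ((w ^ k) y) = 0 := by
    intro k
    have h2 : (w ^ k) = aeval w (X ^ k : ℤ[X]) := by rw [map_pow, aeval_X]
    rw [h2, ← Module.End.mul_apply, ← map_mul, show qa * qb * X ^ k = X ^ k * qb * qa by ring, map_mul,
      Module.End.mul_apply, hqy, map_zero]
  have hz : ∀ k : ℕ, aeval w (qa * qb) ((w ^ k) z) = 0 := by
    intro k
    have h2 : (w ^ k) = aeval w (X ^ k : ℤ[X]) := by rw [map_pow, aeval_X]
    rw [h2, ← Module.End.mul_apply, ← map_mul, show qa * qb * X ^ k = X ^ k * qa * qb by ring, map_mul,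
      Module.End.mul_apply, hqz, map_zero]
  have hy0 := hy 0
  have hy1 := hy 1
  have hz0 := hz 0
  have hz1 := hz 1
  rw [pow_zero, Module.End.one_apply] at hy0 hz0
  rw [pow_one] at hy1 hz1
  fin_cases i
  · exact hy0
  · exact hy1
  · exact hy 2
  · exact hy 3
  · exact hz0
  · exact hz1

theorem finrank_ker_ge {w : Module.End ℤ V} {y z : V} (hy : y ≠ 0) (hz : z ≠ 0) (hqy : aeval w qa y = 0)
    (hqz : aeval w qb z = 0) : 6 ≤ Module.finrank ℤ (LinearMap.ker (w ^ 6 + 1)) := by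
  have h1 := six_indep hy hz hqy hqz
  let f : Fin 6 → LinearMap.ker (w ^ 6 + 1) := fun i => ⟨six w y z i, six_mem hqy hqz i⟩
  have h2 : LinearIndependent ℤ f := by
    apply LinearIndependent.of_comp (LinearMap.ker (w ^ 6 + 1)).subtype
    exact h1
  have h3 := h2.fintype_card_le_finrank
  rwa [Fintype.card_fin] at h3

theorem add_one_ne_zero (w : Module.End ℤ V) : w ^ 6 + 1 ≠ 0 := by
  intro h
  have h1 : w ^ 6 = -1 := eq_neg_of_add_eq_zero_left h
  have h2 := congrArg LinearMap.det h1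
  have h3 : LinearMap.det (-1 : Module.End ℤ V) = -1 := by
    rw [show (-1 : Module.End ℤ V) = (-1 : ℤ) • LinearMap.id by ext; simp only [_root_.LinearMap.neg_comp, _root_.LinearMap.neg_apply, _root_.LinearMap.coe_comp, _root_.LinearMap.coe_single, _root_.Function.comp_apply, _root_.Module.End.one_apply, _root_.Pi.neg_apply, _root_.Int.reduceNeg, _root_.neg_smul, _root_.one_smul, _root_.LinearMap.id_comp], LinearMap.det_smul]
    simp only [_root_.Int.reduceNeg, _root_.Module.finrank_fintype_fun_eq_card, _root_.Fintype.card_fin, _root_.Int.reducePow, _root_.LinearMap.det_id, _root_.mul_one]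
  rw [map_pow, h3, show (6 : ℕ) = 3 * 2 by norm_num, pow_mul] at h2
  have h4 := sq_nonneg (LinearMap.det w ^ 3)
  omega

/-- `w ^ 6 + 1` is `x ↦ c(x) v`, `c` onto `ℤ`. -/
theorem exists_c {w : Module.End ℤ V} {y z : V} (hy : y ≠ 0) (hz : z ≠ 0) (hqy : aeval w qa y = 0)
    (hqz : aeval w qb z = 0) : ∃ (v : V) (c : V →ₗ[ℤ] ℤ), v ≠ 0 ∧ (∃ y, c y = 1) ∧
      ∀ x, (w ^ 6) x + x = c x • v := by
  set N : Module.End ℤ V := w ^ 6 + 1 with hN
  have h1 := finrank_ker_ge hy hz hqy hqz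
  rw [← hN] at h1
  have h2 := (LinearMap.ker N).finrank_quotient_add_finrank
  rw [LinearEquiv.finrank_eq N.quotKerEquivRange] at h2
  have h3 : Module.finrank ℤ V = 7 := by simp
  rw [h3] at h2
  have h4 : Module.finrank ℤ (LinearMap.range N) ≠ 0 := by
    intro h0
    apply add_one_ne_zero w
    rw [← hN]
    have h5 := Submodule.finrank_eq_zero.1 h0
    exact LinearMap.range_eq_bot.1 h5
  have h5 : Module.finrank ℤ (LinearMap.range N) = 1 := by omega
  let b := Module.finBasisOfFinrankEq ℤ (LinearMap.range N) h5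
  let c : V →ₗ[ℤ] ℤ := (b.coord 0) ∘ₗ N.rangeRestrict
  refine ⟨(b 0 : V), c, ?_, ?_, ?_⟩
  · intro h0
    exact b.ne_zero 0 (Subtype.ext h0)
  · obtain ⟨y, hy⟩ := (b 0).2
    refine ⟨y, ?_⟩
    show b.coord 0 (N.rangeRestrict y) = 1
    have : N.rangeRestrict y = b 0 := Subtype.ext hy
    rw [this, Module.Basis.coord_apply, Module.Basis.repr_self, Finsupp.single_eq_same]
  · intro x
    have h6 := b.sum_repr (N.rangeRestrict x)
    rw [Fin.sum_univ_one] at h6
    exact (congrArg Subtype.val h6).symm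

end Rank

end Cfsg.Agent.H904.E7Lat
end

-- part: H904/E7Form
section
/-!
# The form of the lattice `E₇` and the contradiction (helper904)
-/

set_option autoImplicit false

namespace Cfsg.Agent.H904.E7Form

open Cfsg.Agent.H904.E7Lat

/-- The Cartan matrix of type `E₇`. -/
def E : Fin 7 → Fin 7 → ℤ := ![![2, 0, -1, 0, 0, 0, 0], ![0, 2, 0, -1, 0, 0, 0], ![-1, 0, 2, -1, 0, 0, 0],
  ![0, -1, -1, 2, -1, 0, 0], ![0, 0, 0, -1, 2, -1, 0], ![0, 0, 0, 0, -1, 2, -1], ![0, 0, 0, 0, 0, -1, 2]]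

/-- the pairing with the simple coroots -/
def pr (i : Fin 7) (y : V) : ℤ := ∑ k, E i k * y k

theorem pr_zero (y : V) : pr 0 y = 2 * y 0 - y 2 := by
  simp only [pr, E, Fin.sum_univ_succ, _root_.Int.reduceNeg, _root_.Fin.isValue, _root_.Matrix.cons_val', _root_.Matrix.cons_val_fin_one, _root_.Matrix.cons_val_zero, _root_.Matrix.cons_val_succ, _root_.Fin.succ_zero_eq_one, _root_.MulZeroClass.zero_mul, _root_.Fin.succ_one_eq_two, _root_.neg_mul, _root_.one_mul, _root_.Fin.reduceSucc, _root_.Finset.univ_unique, _root_.Fin.default_eq_zero, _root_.Finset.sum_const_zero, _root_.add_zero, _root_.zero_add]; ring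
theorem pr_one (y : V) : pr 1 y = 2 * y 1 - y 3 := by
  simp only [pr, E, Fin.sum_univ_succ, _root_.Int.reduceNeg, _root_.Fin.isValue, _root_.Matrix.cons_val', _root_.Matrix.cons_val_fin_one, _root_.Matrix.cons_val_one, _root_.Matrix.cons_val_zero, _root_.MulZeroClass.zero_mul, _root_.Matrix.cons_val_succ, _root_.Fin.succ_zero_eq_one, _root_.Fin.succ_one_eq_two, _root_.Fin.reduceSucc, _root_.neg_mul, _root_.one_mul, _root_.Finset.univ_unique, _root_.Fin.default_eq_zero, _root_.Finset.sum_const_zero, _root_.add_zero, _root_.zero_add]; ring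
theorem pr_two (y : V) : pr 2 y = - y 0 + 2 * y 2 - y 3 := by
  simp only [pr, E, Fin.sum_univ_succ, _root_.Int.reduceNeg, _root_.Fin.isValue, _root_.Matrix.cons_val', _root_.Matrix.cons_val_fin_one, _root_.Matrix.cons_val, _root_.Matrix.cons_val_one, _root_.Matrix.cons_val_zero, _root_.neg_mul, _root_.one_mul, _root_.Matrix.cons_val_succ, _root_.Fin.succ_zero_eq_one, _root_.MulZeroClass.zero_mul, _root_.Fin.succ_one_eq_two, _root_.Fin.reduceSucc, _root_.Finset.univ_unique, _root_.Fin.default_eq_zero, _root_.Finset.sum_const_zero, _root_.add_zero, _root_.zero_add]; ring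
theorem pr_three (y : V) : pr 3 y = - y 1 - y 2 + 2 * y 3 - y 4 := by
  simp only [pr, E, Fin.sum_univ_succ, _root_.Int.reduceNeg, _root_.Fin.isValue, _root_.Matrix.cons_val', _root_.Matrix.cons_val_fin_one, _root_.Matrix.cons_val, _root_.Matrix.cons_val_one, _root_.Matrix.cons_val_zero, _root_.MulZeroClass.zero_mul, _root_.Matrix.cons_val_succ, _root_.Fin.succ_zero_eq_one, _root_.neg_mul, _root_.one_mul, _root_.Fin.succ_one_eq_two, _root_.Fin.reduceSucc, _root_.Finset.univ_unique, _root_.Fin.default_eq_zero, _root_.Finset.sum_const_zero, _root_.add_zero, _root_.zero_add]; ring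
theorem pr_four (y : V) : pr 4 y = - y 3 + 2 * y 4 - y 5 := by
  simp only [pr, E, Fin.sum_univ_succ, _root_.Int.reduceNeg, _root_.Fin.isValue, _root_.Matrix.cons_val', _root_.Matrix.cons_val_fin_one, _root_.Matrix.cons_val, _root_.Matrix.cons_val_one, _root_.Matrix.cons_val_zero, _root_.MulZeroClass.zero_mul, _root_.Matrix.cons_val_succ, _root_.Fin.succ_zero_eq_one, _root_.Fin.succ_one_eq_two, _root_.Fin.reduceSucc, _root_.neg_mul, _root_.one_mul, _root_.Finset.univ_unique, _root_.Fin.default_eq_zero, _root_.Finset.sum_const_zero, _root_.add_zero, _root_.zero_add]; ring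
theorem pr_five (y : V) : pr 5 y = - y 4 + 2 * y 5 - y 6 := by
  simp only [pr, E, Fin.sum_univ_succ, _root_.Int.reduceNeg, _root_.Fin.isValue, _root_.Matrix.cons_val', _root_.Matrix.cons_val_fin_one, _root_.Matrix.cons_val, _root_.Matrix.cons_val_one, _root_.Matrix.cons_val_zero, _root_.MulZeroClass.zero_mul, _root_.Matrix.cons_val_succ, _root_.Fin.succ_zero_eq_one, _root_.Fin.succ_one_eq_two, _root_.Fin.reduceSucc, _root_.neg_mul, _root_.one_mul, _root_.Finset.univ_unique, _root_.Fin.default_eq_zero, _root_.Finset.sum_neg_distrib, _root_.Finset.sum_singleton, _root_.zero_add]; ring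
theorem pr_six (y : V) : pr 6 y = - y 5 + 2 * y 6 := by
  simp only [pr, E, Fin.sum_univ_succ, _root_.Int.reduceNeg, _root_.Fin.isValue, _root_.Matrix.cons_val', _root_.Matrix.cons_val_fin_one, _root_.Matrix.cons_val, _root_.Matrix.cons_val_one, _root_.Matrix.cons_val_zero, _root_.MulZeroClass.zero_mul, _root_.Matrix.cons_val_succ, _root_.Fin.succ_zero_eq_one, _root_.Fin.succ_one_eq_two, _root_.Fin.reduceSucc, _root_.neg_mul, _root_.one_mul, _root_.Finset.univ_unique, _root_.Fin.default_eq_zero, _root_.Finset.sum_singleton, _root_.zero_add]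

/-- the invariant form -/
def bf (x y : V) : ℤ := ∑ i, x i * pr i y

theorem bf_eq (x y : V) : bf x y = 2 * (x 0 * y 0 + x 1 * y 1 + x 2 * y 2 + x 3 * y 3 + x 4 * y 4 + x 5 * y 5 +
    x 6 * y 6) - (x 0 * y 2 + x 2 * y 0) - (x 1 * y 3 + x 3 * y 1) - (x 2 * y 3 + x 3 * y 2) -
    (x 3 * y 4 + x 4 * y 3) - (x 4 * y 5 + x 5 * y 4) - (x 5 * y 6 + x 6 * y 5) := by
  have h : bf x y = x 0 * pr 0 y + x 1 * pr 1 y + x 2 * pr 2 y + x 3 * pr 3 y + x 4 * pr 4 y + x 5 * pr 5 y +
      x 6 * pr 6 y := by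
    simp only [bf, Fin.sum_univ_seven]
  rw [h, pr_zero, pr_one, pr_two, pr_three, pr_four, pr_five, pr_six]
  ring

theorem bf_symm (x y : V) : bf x y = bf y x := by rw [bf_eq, bf_eq]; ring

theorem bf_add (x y z : V) : bf x (y + z) = bf x y + bf x z := by
  simp only [bf_eq, Pi.add_apply]; ring

theorem bf_smul (x y : V) (c : ℤ) : bf x (c • y) = c * bf x y := by
  simp only [bf_eq, Pi.smul_apply, smul_eq_mul]; ring

theorem bf_add' (x y z : V) : bf (y + z) x = bf y x + bf z x := by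
  rw [bf_symm, bf_add, bf_symm x, bf_symm x]

theorem bf_smul' (x y : V) (c : ℤ) : bf (c • y) x = c * bf y x := by
  rw [bf_symm, bf_smul, bf_symm x]

theorem bf_neg (x y : V) : bf x (-y) = - bf x y := by
  simp only [bf_eq, Pi.neg_apply]; ring

theorem bf_even (x : V) : ∃ m, bf x x = 2 * m := by
  rw [bf_eq]
  exact ⟨x 0 ^ 2 + x 1 ^ 2 + x 2 ^ 2 + x 3 ^ 2 + x 4 ^ 2 + x 5 ^ 2 + x 6 ^ 2 - x 0 * x 2 - x 1 * x 3 - x 2 * x 3 -
    x 3 * x 4 - x 4 * x 5 - x 5 * x 6, by ring⟩

theorem bf_twelve (x : V) : 12 * bf x x = 6 * (2 * x 6 - x 5) ^ 2 + 2 * (3 * x 5 - 2 * x 4) ^ 2 +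
    (4 * x 4 - 3 * x 3) ^ 2 + 6 * (2 * x 0 - x 2) ^ 2 + 2 * (3 * x 2 - 2 * x 3) ^ 2 + 6 * (2 * x 1 - x 3) ^ 2 +
    x 3 ^ 2 := by
  rw [bf_eq]; ring

theorem bf_pos {x : V} (hx : x ≠ 0) : 0 < bf x x := by
  by_contra hcon
  have h := bf_twelve x
  have h0 : 12 * bf x x ≤ 0 := by linarith
  have s1 := sq_nonneg (2 * x 6 - x 5)
  have s2 := sq_nonneg (3 * x 5 - 2 * x 4)
  have s3 := sq_nonneg (4 * x 4 - 3 * x 3)
  have s4 := sq_nonneg (2 * x 0 - x 2)
  have s5 := sq_nonneg (3 * x 2 - 2 * x 3)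
  have s6 := sq_nonneg (2 * x 1 - x 3)
  have s7 := sq_nonneg (x 3)
  have e1 : 2 * x 6 - x 5 = 0 := by apply pow_eq_zero_iff (two_ne_zero) |>.1; linarith
  have e2 : 3 * x 5 - 2 * x 4 = 0 := by apply pow_eq_zero_iff (two_ne_zero) |>.1; linarith
  have e3 : 4 * x 4 - 3 * x 3 = 0 := by apply pow_eq_zero_iff (two_ne_zero) |>.1; linarith
  have e4 : 2 * x 0 - x 2 = 0 := by apply pow_eq_zero_iff (two_ne_zero) |>.1; linarith
  have e5 : 3 * x 2 - 2 * x 3 = 0 := by apply pow_eq_zero_iff (two_ne_zero) |>.1; linarith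
  have e6 : 2 * x 1 - x 3 = 0 := by apply pow_eq_zero_iff (two_ne_zero) |>.1; linarith
  have e7 : x 3 = 0 := by apply pow_eq_zero_iff (two_ne_zero) |>.1; linarith
  apply hx
  funext i
  fin_cases i
  · show x 0 = 0; (clear * - e4 e5 e7; omega)
  · show x 1 = 0; (clear * - e6 e7; omega)
  · show x 2 = 0; (clear * - e5 e7; omega)
  · show x 3 = 0; omega
  · show x 4 = 0; (clear * - e3 e7; omega)
  · show x 5 = 0; (clear * - e2 e3 e7; omega)
  · show x 6 = 0; (clear * - e1 e2 e3 e7; omega)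

/-- the radical modulo `2` -/
def Rd (z : V) : Prop := ∀ i, ∃ m, pr i z = 2 * m

def z0 : V := ![0, 1, 0, 0, 1, 0, 1]

theorem Rd_bf {z : V} (hz : Rd z) (x : V) : ∃ m, bf x z = 2 * m := by
  choose m hm using hz
  exact ⟨∑ i, x i * m i, by
    unfold bf
    rw [Finset.mul_sum]
    exact Finset.sum_congr rfl fun i _ => by rw [hm i]; ring⟩

theorem Rd_of_bf {z : V} (h : ∀ x, ∃ m, bf x z = 2 * m) : Rd z := by
  intro i
  obtain ⟨m, hm⟩ := h (Pi.single i 1)
  refine ⟨m, ?_⟩
  rw [← hm]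
  unfold bf
  rw [Finset.sum_eq_single i]
  · rw [Pi.single_eq_same, one_mul]
  · intro j _ hj
    rw [Pi.single_eq_of_ne hj, zero_mul]
  · intro h1; exact absurd (Finset.mem_univ i) h1

theorem Rd_z0 : Rd z0 := by
  intro i
  fin_cases i
  · exact ⟨0, by decide⟩
  · exact ⟨1, by decide⟩
  · exact ⟨0, by decide⟩
  · exact ⟨-1, by decide⟩
  · exact ⟨1, by decide⟩
  · exact ⟨-1, by decide⟩
  · exact ⟨1, by decide⟩

/-- norms of the non-trivial class -/
theorem norm_z0 (u : V) : ∃ m, bf (z0 + (2 : ℤ) • u) (z0 + (2 : ℤ) • u) = 8 * m + 6 := by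
  obtain ⟨a, ha⟩ := Rd_bf Rd_z0 u
  obtain ⟨b, hb⟩ := bf_even u
  refine ⟨a + b, ?_⟩
  have h0 : bf z0 z0 = 6 := by decide +kernel
  rw [bf_add, bf_add', bf_add', bf_smul, bf_smul, bf_smul', bf_smul', h0, bf_symm z0 u, ha, hb]
  ring

theorem cases_Rd {z : V} (hz : Rd z) : (∃ u : V, z = (2 : ℤ) • u) ∨ ∃ u : V, z = z0 + (2 : ℤ) • u := by
  obtain ⟨m0, h0⟩ := hz 0
  obtain ⟨m1, h1⟩ := hz 1
  obtain ⟨m2, h2⟩ := hz 2
  obtain ⟨m3, h3⟩ := hz 3
  obtain ⟨m4, h4⟩ := hz 4
  obtain ⟨m5, h5⟩ := hz 5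
  obtain ⟨m6, h6⟩ := hz 6
  rw [pr_zero] at h0
  rw [pr_one] at h1
  rw [pr_two] at h2
  rw [pr_three] at h3
  rw [pr_four] at h4
  rw [pr_five] at h5
  rw [pr_six] at h6
  rcases Int.even_or_odd' (z 1) with ⟨k, hk | hk⟩
  · left
    refine ⟨![z 0 / 2, z 1 / 2, z 2 / 2, z 3 / 2, z 4 / 2, z 5 / 2, z 6 / 2], ?_⟩
    funext i
    fin_cases i
    · show z 0 = 2 * (z 0 / 2); (clear * - h1 h2; omega)
    · show z 1 = 2 * (z 1 / 2); (clear * - h2 hk; omega)
    · show z 2 = 2 * (z 2 / 2); (clear * - h0; omega)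
    · show z 3 = 2 * (z 3 / 2); (clear * - h1; omega)
    · show z 4 = 2 * (z 4 / 2); (clear * - h0 h3 hk; omega)
    · show z 5 = 2 * (z 5 / 2); (clear * - h6; omega)
    · show z 6 = 2 * (z 6 / 2); (clear * - h0 h1 h3 h5 hk; omega)
  · right
    refine ⟨![z 0 / 2, z 1 / 2, z 2 / 2, z 3 / 2, z 4 / 2, z 5 / 2, z 6 / 2], ?_⟩
    funext i
    fin_cases i
    · show z 0 = 0 + 2 * (z 0 / 2); (clear * - h1 h2; omega)
    · show z 1 = 1 + 2 * (z 1 / 2); (clear * - h2 hk; omega)
    · show z 2 = 0 + 2 * (z 2 / 2); (clear * - h0; omega)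
    · show z 3 = 0 + 2 * (z 3 / 2); (clear * - h1; omega)
    · show z 4 = 1 + 2 * (z 4 / 2); (clear * - h0 h3 hk; omega)
    · show z 5 = 0 + 2 * (z 5 / 2); (clear * - h6; omega)
    · show z 6 = 1 + 2 * (z 6 / 2); (clear * - h0 h1 h3 h4 h5 hk; omega)

/-- `2 X^* ≤ X`. -/
theorem two_dual {v : V} {b : ℤ} (h : ∀ x, ∃ m, bf x v = b * m) : ∃ u : V, (2 : ℤ) • v = b • u := by
  have h' : ∀ i, ∃ m, pr i v = b * m := by
    intro i
    obtain ⟨m, hm⟩ := h (Pi.single i 1)
    refine ⟨m, ?_⟩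
    rw [← hm]
    unfold bf
    rw [Finset.sum_eq_single i]
    · rw [Pi.single_eq_same, one_mul]
    · intro j _ hj
      rw [Pi.single_eq_of_ne hj, zero_mul]
    · intro h1; exact absurd (Finset.mem_univ i) h1
  obtain ⟨m0, h0⟩ := h' 0
  obtain ⟨m1, h1⟩ := h' 1
  obtain ⟨m2, h2⟩ := h' 2
  obtain ⟨m3, h3⟩ := h' 3
  obtain ⟨m4, h4⟩ := h' 4
  obtain ⟨m5, h5⟩ := h' 5
  obtain ⟨m6, h6⟩ := h' 6
  rw [pr_zero] at h0
  rw [pr_one] at h1
  rw [pr_two] at h2
  rw [pr_three] at h3
  rw [pr_four] at h4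
  rw [pr_five] at h5
  rw [pr_six] at h6
  refine ⟨![4*m0+4*m1+6*m2+8*m3+6*m4+4*m5+2*m6, 4*m0+7*m1+8*m2+12*m3+9*m4+6*m5+3*m6,
    6*m0+8*m1+12*m2+16*m3+12*m4+8*m5+4*m6, 8*m0+12*m1+16*m2+24*m3+18*m4+12*m5+6*m6,
    6*m0+9*m1+12*m2+18*m3+15*m4+10*m5+5*m6, 4*m0+6*m1+8*m2+12*m3+10*m4+8*m5+4*m6,
    2*m0+3*m1+4*m2+6*m3+5*m4+4*m5+3*m6], ?_⟩
  funext i
  fin_cases i
  · show 2 * v 0 = b * (4*m0+4*m1+6*m2+8*m3+6*m4+4*m5+2*m6)
    linear_combination 4*h0+4*h1+6*h2+8*h3+6*h4+4*h5+2*h6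
  · show 2 * v 1 = b * (4*m0+7*m1+8*m2+12*m3+9*m4+6*m5+3*m6)
    linear_combination 4*h0+7*h1+8*h2+12*h3+9*h4+6*h5+3*h6
  · show 2 * v 2 = b * (6*m0+8*m1+12*m2+16*m3+12*m4+8*m5+4*m6)
    linear_combination 6*h0+8*h1+12*h2+16*h3+12*h4+8*h5+4*h6
  · show 2 * v 3 = b * (8*m0+12*m1+16*m2+24*m3+18*m4+12*m5+6*m6)
    linear_combination 8*h0+12*h1+16*h2+24*h3+18*h4+12*h5+6*h6
  · show 2 * v 4 = b * (6*m0+9*m1+12*m2+18*m3+15*m4+10*m5+5*m6)
    linear_combination 6*h0+9*h1+12*h2+18*h3+15*h4+10*h5+5*h6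
  · show 2 * v 5 = b * (4*m0+6*m1+8*m2+12*m3+10*m4+8*m5+4*m6)
    linear_combination 4*h0+6*h1+8*h2+12*h3+10*h4+8*h5+4*h6
  · show 2 * v 6 = b * (2*m0+3*m1+4*m2+6*m3+5*m4+4*m5+3*m6)
    linear_combination 2*h0+3*h1+4*h2+6*h3+5*h4+4*h5+3*h6

/-- **The contradiction**: no isometry `g` of the lattice `E₇`, trivial on the discriminant group, has
`g² + 1 = c(·) v` with `c` onto. -/
theorem contra {g : Module.End ℤ V} (hB : ∀ x y, bf (g x) (g y) = bf x y)
    (hD : ∀ z, Rd z → ∃ u : V, g z = z + (2 : ℤ) • u) {v : V} {c : V →ₗ[ℤ] ℤ} (hv : v ≠ 0) {y : V} (hy : c y = 1)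
    (h : ∀ x, g (g x) + x = c x • v) : False := by
  have hR : ∀ x, g (g x) = c x • v + (-1 : ℤ) • x := by
    intro x
    rw [← h x, neg_one_smul]; abel
  have hBR : ∀ x y, bf (g (g x)) (g (g y)) = bf x y := fun x y => by rw [hB, hB]
  have hb := bf_pos hv
  set b := bf v v with hbdef
  have hBB : ∀ x y, (c x * c y) * b - c x * bf v y - c y * bf v x + bf x y = bf x y := by
    intro x y
    have h1 := hBR x y
    rw [hR, hR] at h1
    simp only [bf_add, bf_add', bf_smul, bf_smul'] at h1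
    rw [← hbdef, bf_symm x v] at h1
    linear_combination h1
  have hcv : c v = 2 := by
    have h1 := hBB v v
    rw [← hbdef] at h1
    have h2 : (c v * (c v - 2)) * b = 0 := by linear_combination h1
    rcases mul_eq_zero.1 h2 with h3 | h3
    · rcases mul_eq_zero.1 h3 with h4 | h4
      · exfalso
        have h5 := hBB v y
        rw [h4, hy, ← hbdef] at h5
        linarith
      · linarith
    · omega
  have hcb : ∀ x, c x * b = 2 * bf v x := by
    intro x
    have h1 := hBB v x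
    rw [hcv, ← hbdef] at h1
    linarith
  rcases Int.even_or_odd' (c z0) with ⟨m, hm | hm⟩
  · -- the even case
    set z := z0 + (2 : ℤ) • ((-m) • y) with hz
    have hcz : c z = 0 := by
      rw [hz, map_add, map_smul, map_smul, hy, hm]
      simp
    have hzR : Rd z := by
      intro i
      obtain ⟨a, ha⟩ := Rd_z0 i
      refine ⟨a - m * pr i y, ?_⟩
      have : pr i z = pr i z0 + 2 * (-m * pr i y) := by
        unfold pr
        rw [Finset.mul_sum, Finset.mul_sum, ← Finset.sum_add_distrib]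
        refine Finset.sum_congr rfl fun k _ => ?_
        rw [hz]
        simp only [Pi.add_apply, Pi.smul_apply, smul_eq_mul]
        ring
      rw [this, ha]; ring
    obtain ⟨n, hn⟩ := norm_z0 ((-m) • y)
    rw [← hz] at hn
    obtain ⟨u, hu⟩ := hD z hzR
    obtain ⟨a, ha⟩ := Rd_bf hzR u
    have h1 : g (g z) = (-1 : ℤ) • z := by rw [hR, hcz, zero_smul, zero_add]
    have h2 := hB (g z) z
    rw [h1, bf_smul', bf_symm z] at h2
    have h3 : bf (g z) z = 0 := by linarith
    rw [hu, bf_add', bf_smul', ha, hn] at h3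
    omega
  · -- the odd case
    obtain ⟨u1, hu1⟩ := hD z0 Rd_z0
    obtain ⟨u2, hu2⟩ : ∃ u : V, g (g z0) = z0 + (2 : ℤ) • u := by
      have h1 : Rd (g z0) := by
        rw [hu1]
        intro i
        obtain ⟨a, ha⟩ := Rd_z0 i
        refine ⟨a + pr i u1, ?_⟩
        have : pr i (z0 + (2 : ℤ) • u1) = pr i z0 + 2 * pr i u1 := by
          unfold pr
          rw [Finset.mul_sum, ← Finset.sum_add_distrib]
          refine Finset.sum_congr rfl fun k _ => ?_
          simp only [Pi.add_apply, Pi.smul_apply, smul_eq_mul]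
          ring
        rw [this, ha]; ring
      obtain ⟨u3, hu3⟩ := hD _ h1
      exact ⟨u1 + u3, by rw [hu3, hu1, smul_add]; abel⟩
    have hv2 : ∃ v2 : V, v = (2 : ℤ) • v2 := by
      refine ⟨z0 + u2 + (-m) • v, ?_⟩
      have h1 := hR z0
      rw [hu2, hm] at h1
      have h2 : (2 * m + 1) • v = (2 : ℤ) • (z0 + u2) := by
        have : (2 * m + 1) • v = (z0 + (2 : ℤ) • u2) - (-1 : ℤ) • z0 := by rw [h1]; abel
        rw [this, neg_one_smul, smul_add, two_smul ℤ z0]; abel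
      have h3 : v = (2 * m + 1) • v - (2 * m) • v := by
        rw [← sub_smul, show (2 * m + 1) - 2 * m = (1 : ℤ) by ring, one_smul]
      rw [smul_add, ← h2, smul_smul, show (2 : ℤ) * -m = -(2 * m) by ring, neg_smul, ← sub_eq_add_neg]
      exact h3
    obtain ⟨w, hw⟩ := hv2
    have hw0 : w ≠ 0 := by rintro rfl; exact hv (by rw [hw, smul_zero])
    set b2 := bf w w with hb2
    have hb2pos : 0 < b2 := bf_pos hw0
    have e1 : b = 4 * b2 := by rw [hbdef, hw, bf_smul, bf_smul', ← hb2]; ring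
    have e2 : ∀ x, bf w x = c x * b2 := by
      intro x
      have h1 := hcb x
      rw [hw, bf_smul'] at h1
      have h2 : b = 4 * b2 := e1
      have h3 : c x * b = c x * (4 * b2) := by rw [h2]
      linarith
    have e3 : ∃ u : V, (2 : ℤ) • w = b2 • u := two_dual fun x => ⟨c x, by rw [bf_symm, e2]; ring⟩
    obtain ⟨u, hu⟩ := e3
    have e4 : 4 * b2 = b2 * (b2 * bf u u) := by
      have h1 : bf ((2 : ℤ) • w) ((2 : ℤ) • w) = bf (b2 • u) (b2 • u) := by rw [hu]
      rw [bf_smul, bf_smul', bf_smul, bf_smul', ← hb2] at h1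
      linarith
    have e5 : b2 * bf u u = 4 := by
      have h1 : b2 * (b2 * bf u u - 4) = 0 := by linarith
      rcases mul_eq_zero.1 h1 with h2 | h2
      · omega
      · linarith
    obtain ⟨a1, ha1⟩ := bf_even u
    obtain ⟨a2, ha2⟩ := bf_even w
    rw [← hb2] at ha2
    have e6 : b2 = 2 := by
      rw [ha1, ha2] at e5
      have h1 : a2 * a1 = 1 := by linarith
      have h2 : 0 < a2 := by omega
      rcases Int.mul_eq_one_iff_eq_one_or_neg_one.1 h1 with ⟨h3, _⟩ | ⟨h3, _⟩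
      · omega
      · omega
    have e7 : Rd w := Rd_of_bf fun x => ⟨c x, by rw [bf_symm, e2, e6]; ring⟩
    rcases cases_Rd e7 with ⟨u3, h3⟩ | ⟨u3, h3⟩
    · obtain ⟨a3, ha3⟩ := bf_even u3
      rw [hb2, h3, bf_smul, bf_smul', ha3] at e6
      omega
    · obtain ⟨a3, ha3⟩ := norm_z0 u3
      rw [← h3, ← hb2, e6] at ha3
      omega

end Cfsg.Agent.H904.E7Form
end

-- part: H904/E7Main
section
/-!
# `E₇(2)` has no element of order 65 (helper904)
-/

set_option autoImplicit false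
set_option linter.unusedSectionVars false

namespace Cfsg.Agent.H904.E7Main

open CoxeterSystem Cfsg.Agent.ChevalleyStructure.CoxeterGeom Cfsg.Agent.Tits.Roots Cfsg.Agent.Tits.Core
  Cfsg.Agent.Nodes.Reps Cfsg.Agent.Nodes.BNOf Cfsg.Agent.Nodes.OppDec Cfsg.Agent.KFacts.RgdAut
  Cfsg.Agent.KFacts.RgdDiag Cfsg.Agent.Nodes.Bruhat
open Cfsg.Lie Cfsg.Agent.ChevalleyStructure Cfsg.Agent.ChevalleyStructure.Elts
  Cfsg.Agent.ChevalleyStructure.CoxeterGeomTypes
  Cfsg.Agent.Nodes.RGDChev Cfsg.Agent.KFacts.RgdField Cfsg.Agent.KFacts.RgdChevCoord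
  Cfsg.Agent.CpAut.RgdSub Cfsg.Agent.CpAut.RgdFix Cfsg.Agent.ChevStructure.FieldMap Cfsg.Agent.BpExc.TorAll
open Cfsg.Agent.H904.E7Lat Cfsg.Agent.H904.E7Form Cfsg.Agent.H904.TorPQ

universe u

theorem cartan_eq : ∀ i j : Fin 7, cartanOf chevE7 7 i j = E i j := by decide +kernel

theorem pairing_eq (i : Fin 7) (x : V) : pairing (cartanOf chevE7 7) i x = pr i x := by
  unfold pairing pr
  exact Finset.sum_congr rfl fun k _ => by rw [cartan_eq]

abbrev hp7 : IsType chevE7 7 CoxeterMatrix.E₇ := Cfsg.Agent.BpExc.RowsUntw.e7T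

section Latt

variable {W : Type*} [Group W] (cs : CoxeterSystem CoxeterMatrix.E₇ W)

theorem pr_single (i j : Fin 7) (c : ℤ) : pr i (Pi.single j c) = E i j * c := by
  unfold pr
  rw [Finset.sum_eq_single j]
  · rw [Pi.single_eq_same]
  · intro k _ hk
    rw [Pi.single_eq_of_ne hk, mul_zero]
  · intro h; exact absurd (Finset.mem_univ j) h

theorem bf_single (x : V) (i : Fin 7) (c : ℤ) : bf (Pi.single i c) x = c * pr i x := by
  unfold bf
  rw [Finset.sum_eq_single i]
  · rw [Pi.single_eq_same]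
  · intro k _ hk
    rw [Pi.single_eq_of_ne hk, zero_mul]
  · intro h; exact absurd (Finset.mem_univ i) h

theorem bf_refl (i : Fin 7) (x y : V) :
    bf (refl (cartanOf chevE7 7) i x) (refl (cartanOf chevE7 7) i y) = bf x y := by
  have h1 : ∀ x : V, refl (cartanOf chevE7 7) i x = x + Pi.single i (-pr i x) := by
    intro x
    rw [refl_apply, pairing_eq, Pi.single_neg, sub_eq_add_neg]
  have hE : E i i = 2 := by rw [← cartan_eq]; exact (hp7.isCartan).diag i
  rw [h1, h1, bf_add, bf_add', bf_add', bf_single, bf_single, pr_single, hE, bf_symm x (Pi.single _ _), bf_single]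
  ring

theorem bf_rep (w : W) (x y : V) : bf (rep cs hp7.isCartan w x) (rep cs hp7.isCartan w y) = bf x y := by
  obtain ⟨ω, rfl⟩ := cs.wordProd_surjective w
  induction ω with
  | nil => rw [wordProd_nil, map_one, Module.End.one_apply, Module.End.one_apply]
  | cons i ω ih => rw [wordProd_cons, rep_mul_apply, rep_mul_apply, rep_simple, bf_refl, ih]

theorem pr_add (i : Fin 7) (x y : V) : pr i (x + y) = pr i x + pr i y := by
  unfold pr
  rw [← Finset.sum_add_distrib]
  exact Finset.sum_congr rfl fun k _ => by rw [Pi.add_apply]; ring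

theorem pr_smul (i : Fin 7) (x : V) (c : ℤ) : pr i (c • x) = c * pr i x := by
  unfold pr
  rw [Finset.mul_sum]
  exact Finset.sum_congr rfl fun k _ => by rw [Pi.smul_apply, smul_eq_mul]; ring

theorem Rd_add {z : V} (hz : Rd z) (u : V) : Rd (z + (2 : ℤ) • u) := by
  intro i
  obtain ⟨m, hm⟩ := hz i
  exact ⟨m + pr i u, by rw [pr_add, pr_smul, hm]; ring⟩

theorem disc_rep (w : W) (z : V) (hz : Rd z) : ∃ u : V, rep cs hp7.isCartan w z = z + (2 : ℤ) • u := by
  obtain ⟨ω, rfl⟩ := cs.wordProd_surjective w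
  induction ω with
  | nil => exact ⟨0, by rw [wordProd_nil, map_one, Module.End.one_apply, smul_zero, add_zero]⟩
  | cons i ω ih =>
    obtain ⟨u, hu⟩ := ih
    obtain ⟨m, hm⟩ := Rd_add hz u i
    refine ⟨u + Pi.single i (-m), ?_⟩
    rw [wordProd_cons, rep_mul_apply, rep_simple, hu, refl_apply, pairing_eq, hm, smul_add, ← Pi.single_smul,
      smul_eq_mul, sub_eq_add_neg, ← Pi.single_neg, add_assoc]
    congr 3
    ring

include cs in
theorem card_W : Nat.card W = 2903040 := by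
  have h1 : Nat.card CoxeterMatrix.E₇.Group = 2903040 :=
    Cfsg.Agent.S1093.result (⟨7, CoxeterMatrix.E₇⟩, 2903040) (by simp)
  rw [← h1]
  exact Nat.card_congr cs.mulEquiv.toEquiv

/-- **The lattice contradiction.** -/
theorem latt_false {Q : Type*} [AddCommGroup Q] {w : W} {φ : V →+ Q}
    (h : ∀ x, φ (rep cs hp7.isCartan w x) = (2 : ℤ) • φ x) (h65 : ∀ x, (65 : ℤ) • φ x = 0)
    (h5 : ∃ x, (5 : ℤ) • φ x ≠ 0) (h13 : ∃ x, (13 : ℤ) • φ x ≠ 0) : False := by
  have hfin := finite_W hp7 cs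
  set r := rep cs hp7.isCartan (w ^ 25) with hr
  have hpow : ∀ n : ℕ, ∀ x, φ (rep cs hp7.isCartan (w ^ n) x) = ((2 : ℤ) ^ n) • φ x := by
    intro n
    induction n with
    | zero => intro x; simp only [_root_.pow_zero, _root_.map_one, _root_.Module.End.one_apply, _root_.one_smul]
    | succ n ih =>
      intro x
      rw [pow_succ, rep_mul_apply, ih, h, smul_smul, pow_succ]
  have h2 : ∀ x, φ (r x) = (2 : ℤ) • φ x := by
    intro x
    rw [hr, hpow, show ((2 : ℤ) ^ 25) = 2 + 516222 * 65 by norm_num, add_smul, mul_smul, h65, smul_zero, add_zero]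
  have hr1 : r ^ (12 * 48384) = 1 := by
    rw [hr, ← map_pow, ← pow_mul]
    have h3 : w ^ (25 * (12 * 48384)) = 1 := by
      rw [show 25 * (12 * 48384) = 2903040 * 5 by norm_num, pow_mul, ← card_W cs, pow_card_eq_one', one_pow]
    rw [h3, map_one]
  let ψ (c : ℤ) : V →+ Q := (zsmulAddGroupHom c).comp φ
  have hψ : ∀ c x, ψ c x = c • φ x := fun c x => rfl
  have hψ2 : ∀ c x, ψ c (r x) = (2 : ℤ) • ψ c x := by
    intro c x
    rw [hψ, hψ, h2, smul_comm]
  obtain ⟨y, hy, hqy⟩ := exists_ker (φ := ψ 5) (hψ2 5) hr1 (qa_mul 48384) (l := 13) (fun x => by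
    rw [hψ, smul_smul, show (13 : ℤ) * 5 = 65 by norm_num, h65]) (cop_qa (by norm_num)) (by
    intro h0
    obtain ⟨x, hx⟩ := h5
    exact hx (by rw [← hψ, h0]; rfl))
  obtain ⟨z, hz, hqz⟩ := exists_ker (φ := ψ 13) (hψ2 13) hr1 (qb_mul 48384) (l := 5) (fun x => by
    rw [hψ, smul_smul, show (5 : ℤ) * 13 = 65 by norm_num, h65]) (cop_qb (by norm_num)) (by
    intro h0
    obtain ⟨x, hx⟩ := h13
    exact hx (by rw [← hψ, h0]; rfl))
  obtain ⟨v, c, hv, ⟨y1, hy1⟩, hc⟩ := exists_c hy hz hqy hqz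
  have hg : r ^ 3 = rep cs hp7.isCartan ((w ^ 25) ^ 3) := by rw [hr, ← map_pow]
  refine contra (g := r ^ 3) (fun x y => by rw [hg]; exact bf_rep cs _ x y)
    (fun z hz => by rw [hg]; exact disc_rep cs _ z hz) hv hy1 (fun x => ?_)
  rw [← hc x, ← Module.End.mul_apply, ← pow_add]

end Latt

section Grp

variable {K : Type u} [Field K] [Finite K] [CharP K 2]

theorem center_eq_bot (K : Type u) [Field K] : Subgroup.center ↥(chevE7.group K) = ⊥ := by
  obtain ⟨h1, h2⟩ := Cfsg.Agent.S1054.result (F := K) chevE7 (by simp)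
  refine Cfsg.Agent.KFacts.RgdLieCharP.center_eq_bot ?_
  by_contra hcon
  push Not at hcon
  exact h2 ⟨⟨hcon⟩⟩

variable {W : Type*} [Group W] (cs : CoxeterSystem CoxeterMatrix.E₇ W)

include cs in
theorem eq_one_of_ch {t : ↥(chevE7.group K)} (ht : t ∈ TT chevE7 K)
    (h : ∀ a, IsRoot cs hp7.isCartan a → ch hp7 a t = 1) : t = 1 := by
  have C := coords (K := K) hp7 cs 2
  have h1 : (⊤ : Subgroup ↥(chevE7.group K)) ≤ Subgroup.centralizer {t} := by
    rw [← Cfsg.Agent.BpExc.TorChev.GG_top (K := K) hp7 cs]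
    refine sup_le ?_ ?_
    · intro s hs
      rw [Subgroup.mem_centralizer_singleton_iff]
      exact (Cfsg.Agent.BpExc.TorChev.TT_comm hp7 t ht s hs).symm
    · refine RGD.Sup_le fun a ha => ?_
      intro y hy
      obtain ⟨s, rfl⟩ := ((C.coord a ha).mem y).1 hy
      rw [Subgroup.mem_centralizer_singleton_iff]
      have h2 := (C.coord a ha).act t ht s
      rw [h a ha, one_mul, mul_inv_eq_iff_eq_mul] at h2
      exact h2.symm
  have h2 : t ∈ Subgroup.center ↥(chevE7.group K) := by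
    rw [Subgroup.mem_center_iff]
    intro g
    exact Subgroup.mem_centralizer_singleton_iff.1 (h1 (Subgroup.mem_top g))
  rwa [center_eq_bot, Subgroup.mem_bot] at h2

include cs in
theorem false_of {t s : ↥(chevE7.group K)} (ht : t ∈ TT chevE7 K) (ho : orderOf t = 65)
    {τ : K ≃+* K} (hτ : ∀ a, τ a = a ^ 2) (hs : s * t * s⁻¹ = fG chevE7 τ t) : False := by
  have hfin := finite_W hp7 cs
  have R := rgd (K := K) hp7 cs 2
  have C := coords (K := K) hp7 cs 2
  have hG : GG cs hp7.isCartan (TT chevE7 K) (XX chevE7 7 K) = ⊤ := Cfsg.Agent.BpExc.TorChev.GG_top (K := K) hp7 cs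
  have D := diag_fG hp7 2 cs τ 1
  rw [pow_one] at D
  have ht' : fG chevE7 τ t ∈ TT chevE7 K := (D.tor t).2 ht
  obtain ⟨w, k, hk, hkt⟩ := conj_T_rp R hG ht ht' hs
  obtain ⟨φ, hφ0, hφ, hφt⟩ := Cfsg.Agent.BpExc.TorChev.chAdd hp7 cs 2 t ht
  have hch : ∀ a, IsRoot cs hp7.isCartan a → ch hp7 a (fG chevE7 τ t) = ch hp7 a t ^ 2 := by
    intro a ha
    obtain ⟨r, hr, rfl⟩ := (isRoot_iff hp7 cs a).1 ha
    apply ch_eq hp7 hr ht'
    have h1 := (C.coord _ ha).act t ht 1
    have h2 := congrArg (fG chevE7 τ) h1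
    rw [map_mul, map_mul, map_inv, fG_xc hp7 τ hr, fG_xc hp7 τ hr, map_one, mul_one, hτ] at h2
    exact h2
  have h1 : ∀ a, IsRoot cs hp7.isCartan a → φ (rep cs hp7.isCartan w a) ^ 2 = φ a := by
    intro a ha
    have h2 := C.chi_rp R.nsys hk ha ht
    rw [hkt, hch _ (ha.act w), hφt _ (ha.act w), hφt a ha] at h2
    exact h2
  have h2 : ∀ a, IsRoot cs hp7.isCartan a → φ (rep cs hp7.isCartan w⁻¹ a) = φ a ^ 2 := by
    intro a ha
    have h3 := h1 _ (ha.act w⁻¹)
    rw [← rep_mul_apply, mul_inv_cancel, map_one, Module.End.one_apply] at h3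
    exact h3.symm
  have hne : ∀ x, φ x ≠ 0 := by
    intro x h0
    have h3 := hφ x (-x)
    rw [add_neg_cancel, hφ0, h0, zero_mul] at h3
    exact one_ne_zero h3
  let Φ : V →+ Additive Kˣ :=
    { toFun := fun x => Additive.ofMul (Units.mk0 (φ x) (hne x))
      map_zero' := by
        rw [← ofMul_one]
        congr 1
        exact Units.ext hφ0
      map_add' := fun x y => by
        rw [← ofMul_mul]
        congr 1
        exact Units.ext (hφ x y) }
  have hΦ : ∀ x, ((Additive.toMul (Φ x) : Kˣ) : K) = φ x := fun x => rfl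
  have hpow : ∀ (n : ℕ) (x : V), ((Additive.toMul ((n : ℤ) • Φ x) : Kˣ) : K) = φ x ^ n := by
    intro n x
    rw [natCast_zsmul, toMul_nsmul, Units.val_pow_eq_pow_val, hΦ]
  have hroot : ∀ i : Fin 7, IsRoot cs hp7.isCartan (sr i) := fun i => isRoot_sr cs hp7.isCartan i
  have hchp : ∀ (n : ℕ) a, IsRoot cs hp7.isCartan a → ch hp7 a (t ^ n) = φ a ^ n := by
    intro n a ha
    have Ca := C.coord a ha
    induction n with
    | zero =>
      rw [pow_zero, pow_zero]
      have h3 := Ca.chi_mul (one_mem _) (one_mem _)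
      rw [mul_one] at h3
      exact (mul_eq_left₀ (Ca.chi_ne_zero (one_mem _))).1 h3.symm
    | succ n ih => rw [pow_succ, Ca.chi_mul (pow_mem ht n) ht, ih, hφt a ha, pow_succ]
  have hext : ∀ F1 F2 : V →+ Additive Kˣ, (∀ i : Fin 7, F1 (sr i) = F2 (sr i)) → F1 = F2 := by
    intro F1 F2 h3
    have h4 : F1.toIntLinearMap = F2.toIntLinearMap := by
      apply (Pi.basisFun ℤ (Fin 7)).ext
      intro i
      rw [Pi.basisFun_apply]
      exact h3 i
    exact AddMonoidHom.ext fun x => LinearMap.congr_fun h4 x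
  have hinj : Function.Injective (fun q : Additive Kˣ => ((Additive.toMul q : Kˣ) : K)) := by
    intro a b hab
    exact Additive.toMul.injective (Units.ext hab)
  refine latt_false (cs := cs) (w := w⁻¹) (φ := Φ) ?_ ?_ ?_ ?_
  · intro x
    have h3 := hext (Φ.comp (rep cs hp7.isCartan w⁻¹).toAddMonoidHom) ((zsmulAddGroupHom 2).comp Φ) (by
      intro i
      apply hinj
      show ((Additive.toMul (Φ (rep cs hp7.isCartan w⁻¹ (sr i))) : Kˣ) : K) =
        ((Additive.toMul ((2 : ℤ) • Φ (sr i)) : Kˣ) : K)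
      rw [hΦ, h2 _ (hroot i)]
      exact (hpow 2 _).symm)
    exact DFunLike.congr_fun h3 x
  · intro x
    have h3 := hext ((zsmulAddGroupHom 65).comp Φ) 0 (by
      intro i
      apply hinj
      show ((Additive.toMul ((65 : ℤ) • Φ (sr i)) : Kˣ) : K) = ((1 : Kˣ) : K)
      refine (hpow 65 _).trans ?_
      rw [← hchp 65 _ (hroot i), ← ho, pow_orderOf_eq_one]
      have h3 := hchp 0 _ (hroot i)
      rw [pow_zero, pow_zero] at h3
      rw [h3]
      rfl)
    exact DFunLike.congr_fun h3 x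
  · by_contra hcon
    push Not at hcon
    have h3 : t ^ 5 = 1 := eq_one_of_ch cs (pow_mem ht 5) (fun a ha => by
      rw [hchp 5 a ha, ← hpow 5]
      have h4 := hcon a
      exact congrArg (fun q : Additive Kˣ => ((Additive.toMul q : Kˣ) : K)) h4)
    have h4 := orderOf_dvd_of_pow_eq_one h3
    rw [ho] at h4
    norm_num at h4
  · by_contra hcon
    push Not at hcon
    have h3 : t ^ 13 = 1 := eq_one_of_ch cs (pow_mem ht 13) (fun a ha => by
      rw [hchp 13 a ha, ← hpow 13]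
      have h4 := hcon a
      exact congrArg (fun q : Additive Kˣ => ((Additive.toMul q : Kˣ) : K)) h4)
    have h4 := orderOf_dvd_of_pow_eq_one h3
    rw [ho] at h4
    norm_num at h4

end Grp

/-- **`E₇(2)` has no element of order 65.** -/
theorem orderOf_ne (x0 : ↥(chevE7.group (ZMod 2))) : orderOf x0 ≠ 65 := by
  intro ho
  let k := AlgebraicClosure (ZMod 2)
  have hch : CharP k 2 := inferInstance
  have hk : HAlg 2 k := hAlg_of_isAlgebraic 2 k
  let f : ZMod 2 →+* k := algebraMap (ZMod 2) k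
  let x : ↥(chevE7.group k) := Cfsg.Agent.GpExc.Field.emb hp7.inList f x0
  have hx65 : x ^ 65 = 1 := by rw [← map_pow, ← ho, pow_orderOf_eq_one, map_one]
  have hox : orderOf x = 65 := by
    rw [← ho]
    exact orderOf_injective _ (Cfsg.Agent.GpExc.Field.emb_injective hp7.inList f) x0
  obtain ⟨N, hN, x', hxx', g, hg⟩ := exists_level_toral hp7 2 hk x.2 (a := 5) (b := 13) (by norm_num) (by norm_num)
    (by norm_num) (by norm_num) (by norm_num) (by
      rw [show 5 * 13 = 65 by norm_num, ← Subgroup.coe_pow, hx65, Subgroup.coe_one]) (by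
      have h1 : Nat.card CoxeterMatrix.E₇.Group = 2903040 :=
        Cfsg.Agent.S1093.result (⟨7, CoxeterMatrix.E₇⟩, 2903040) (by simp)
      rw [h1]
      norm_num)
  have hfinN : Finite ↥(EE 2 N : Subfield k) := finite_EE 2 hN
  have : CharP ↥(EE 2 N : Subfield k) 2 := charP_fixF 2 _
  have hox' : orderOf x' = 65 := by
    rw [← hox, ← Subgroup.orderOf_coe x', ← Subgroup.orderOf_coe x, ← hxx']
    exact (orderOf_injective _ (glm_injective (D := chevE7) (EE 2 N : Subfield k)) _).symm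
  have hfx : fG chevE7 (frE 2 N 1) x' = x' := by
    apply Subtype.ext
    apply Units.ext
    ext a b
    rw [fG_coe]
    show (((x' : GL chevE7.Idx ↥(EE 2 N : Subfield k)) : Matrix chevE7.Idx chevE7.Idx ↥(EE 2 N : Subfield k)) a b : k)
      ^ 2 ^ 1 = (((x' : GL chevE7.Idx ↥(EE 2 N : Subfield k)) : Matrix chevE7.Idx chevE7.Idx
      ↥(EE 2 N : Subfield k)) a b : k)
    have h1 := congrFun (congrFun (congrArg (fun x : GL chevE7.Idx k => (x : Matrix chevE7.Idx chevE7.Idx k)) hxx') a) b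
    have h2 : (((x' : GL chevE7.Idx ↥(EE 2 N : Subfield k)) : Matrix chevE7.Idx chevE7.Idx
      ↥(EE 2 N : Subfield k)) a b : k) = f (((x0 : GL chevE7.Idx (ZMod 2)) : Matrix chevE7.Idx chevE7.Idx (ZMod 2)) a b) :=
      h1
    rw [h2, ← map_pow]
    congr 1
    have h3 : ∀ c : ZMod 2, c ^ 2 ^ 1 = c := by decide
    exact h3 _
  refine false_of (K := ↥(EE 2 N : Subfield k)) CoxeterMatrix.E₇.toCoxeterSystem (t := g * x' * g⁻¹)
    (s := fG chevE7 (frE 2 N 1) g * g⁻¹) hg ?_ (τ := frE 2 N 1) (fun a => Subtype.ext rfl) ?_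
  · rw [← hox']
    exact orderOf_injective (MulAut.conj g).toMonoidHom (MulAut.conj g).injective x'
  · rw [map_mul, map_mul, map_inv, hfx]
    group

end Cfsg.Agent.H904.E7Main
end

private theorem dce_d5e258110c38 : _root_.True := by
  try have : _root_.True := by simp only [_root_.Cfsg.Agent.H904.E7Form.E.eq_1]
  try have : _root_.True := by simp only [_root_.Cfsg.Agent.H904.E7Form.bf.eq_1]
  try have : _root_.True := by simp only [_root_.Cfsg.Agent.H904.E7Lat.six.eq_1]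
  try have : _root_.True := by simp only [_root_.Cfsg.Agent.H904.E7Form.pr.eq_1]
  try have : _root_.True := by simp only [_root_.Cfsg.Agent.H904.E7Lat.io.eq_1]
  exact _root_.True.intro
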