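import Mathlib
import Cfsg.Agent.Prune
set_option linter.all false
prune_inst 0x7f00000000000000000000000000000000000000000000000000000000000000000000000000000000000000000000000000000000000000000000000000000000000000000000000000000000000000003fffffffffffffffffffffffffffbeffbdffffffff
open scoped Cfsg.Agent.FastGrp

/-!
# Centralizers in permutation groups preserving a relation (helper904)

`ψ : T →* Perm (Fin n)` injective, `R (ψ g i) (ψ g j) = R i j` for a computable `R`; `x : T` is given by a table `tb`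
on the points. `card_cent_le`: a kernel-checkable bound of `|C_T(x)|`: the number of points `b'` for which
`R b' (xⁱ b') = R b (xⁱ b)` (`i < k`), provided that only `1` fixes `b` and centralizes `x` (checked by adjacency
patterns).
-/

set_option autoImplicit false

namespace Cfsg.Agent.H904.CentChk

open Subgroup Equiv

universe u

/-- `[b, x b, x² b, …]`, `k` terms -/
def cyc (tb : ℕ → ℕ) : ℕ → ℕ → List ℕ
  | 0, _ => []
  | k + 1, b => b :: cyc tb k (tb b)

/-- the pattern of `v` with respect to the points of `F` and `v, x v, …` (`k` terms) -/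
def code (R : ℕ → ℕ → ℕ) (tb : ℕ → ℕ) (F : List ℕ) (k v : ℕ) : ℕ :=
  (F ++ cyc tb k v).foldl (fun a f => a * 64 + R v f) 0

variable {T : Type u} [Group T] {n : ℕ}

/-- the situation -/
structure Sys (ψ : T →* Perm (Fin n)) (R : ℕ → ℕ → ℕ) (x : T) (tb : ℕ → ℕ) : Prop where
  inj : Function.Injective ψ
  rel : ∀ (g : T) (i j : Fin n), R (ψ g i) (ψ g j) = R i j
  tab : ∀ i : Fin n, ((ψ x i : Fin n) : ℕ) = tb i

variable {ψ : T →* Perm (Fin n)} {R : ℕ → ℕ → ℕ} {x : T} {tb : ℕ → ℕ}

/-- `g` fixes the points of the list -/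
def Fix (ψ : T →* Perm (Fin n)) (g : T) (F : List ℕ) : Prop := ∀ i : Fin n, (i : ℕ) ∈ F → ψ g i = i

theorem Fix.append {g : T} {F F' : List ℕ} (h : Fix ψ g F) (h' : Fix ψ g F') : Fix ψ g (F ++ F') := by
  intro i hi
  rcases List.mem_append.1 hi with hi | hi
  · exact h i hi
  · exact h' i hi

theorem Sys.comm (_S : Sys ψ R x tb) {g : T} (hg : g * x = x * g) (i : Fin n) : ψ g (ψ x i) = ψ x (ψ g i) := by
  rw [← Perm.mul_apply, ← Perm.mul_apply, ← map_mul, ← map_mul, hg]

theorem Sys.lt (S : Sys ψ R x tb) {b : ℕ} (hb : b < n) : tb b < n := by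
  rw [← S.tab ⟨b, hb⟩]
  exact (ψ x ⟨b, hb⟩).2

theorem Sys.fix_cyc (S : Sys ψ R x tb) {g : T} (hg : g * x = x * g) : ∀ (k b : ℕ) (hb : b < n),
    ψ g ⟨b, hb⟩ = ⟨b, hb⟩ → Fix ψ g (cyc tb k b)
  | 0, _, _, _ => fun i hi => by simp [cyc] at hi
  | k + 1, b, hb, h => by
    intro i hi
    rw [cyc, List.mem_cons] at hi
    rcases hi with hi | hi
    · have : i = ⟨b, hb⟩ := Fin.ext hi
      rw [this, h]
    · refine S.fix_cyc hg k (tb b) (S.lt hb) ?_ i hi
      have h1 : (⟨tb b, S.lt hb⟩ : Fin n) = ψ x ⟨b, hb⟩ := Fin.ext (S.tab ⟨b, hb⟩).symm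
      rw [h1, S.comm hg, h]

theorem foldl_congr {F : List ℕ} {v w : ℕ} (h : ∀ f ∈ F, R v f = R w f) (a : ℕ) :
    F.foldl (fun a f => a * 64 + R v f) a = F.foldl (fun a f => a * 64 + R w f) a := by
  induction F generalizing a with
  | nil => rfl
  | cons f F ih =>
    rw [List.foldl_cons, List.foldl_cons, h f List.mem_cons_self]
    exact ih (fun f' hf' => h f' (List.mem_cons_of_mem _ hf')) _

theorem Sys.cyc_congr (S : Sys ψ R x tb) {g : T} (hg : g * x = x * g) (i : Fin n) : ∀ (k : ℕ) (c : Fin n) (a : ℕ),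
    (cyc tb k (ψ g c : Fin n)).foldl (fun a f => a * 64 + R (ψ g i : Fin n) f) a =
      (cyc tb k c).foldl (fun a f => a * 64 + R i f) a
  | 0, _, _ => rfl
  | k + 1, c, a => by
    rw [cyc, cyc, List.foldl_cons, List.foldl_cons, S.rel g i c]
    have h1 := S.cyc_congr hg i k (ψ x c) (a * 64 + R i c)
    rw [S.comm hg] at h1
    rw [← S.tab (ψ g c), ← S.tab c]
    exact h1

theorem Sys.code_eq (S : Sys ψ R x tb) {g : T} (hg : g * x = x * g) {F : List ℕ} (hF : Fix ψ g F)
    (hn : ∀ f ∈ F, f < n) (k : ℕ) (i : Fin n) : code R tb F k (ψ g i : Fin n) = code R tb F k i := by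
  unfold code
  rw [List.foldl_append, List.foldl_append]
  have h2 : F.foldl (fun a f => a * 64 + R (ψ g i : Fin n) f) 0 = F.foldl (fun a f => a * 64 + R i f) 0 := by
    apply foldl_congr
    intro f hf
    have h1 := S.rel g i ⟨f, hn f hf⟩
    rwa [hF ⟨f, hn f hf⟩ hf] at h1
  rw [h2]
  exact S.cyc_congr hg i k i _

/-- a point with its own pattern is fixed -/
theorem Sys.fix_of_unique (S : Sys ψ R x tb) {g : T} (hg : g * x = x * g) {F : List ℕ} (hF : Fix ψ g F)
    (hn : ∀ f ∈ F, f < n) (k : ℕ) (y : ℕ) (hy : y < n)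
    (h : ((List.range n).all fun v => Nat.beq v y || !Nat.beq (code R tb F k v) (code R tb F k y)) = true) :
    ψ g ⟨y, hy⟩ = ⟨y, hy⟩ := by
  rw [List.all_eq_true] at h
  have h1 := h (ψ g ⟨y, hy⟩ : Fin n) (List.mem_range.2 (ψ g ⟨y, hy⟩).2)
  rw [Bool.or_eq_true] at h1
  rcases h1 with h1 | h1
  · exact Fin.ext (Nat.eq_of_beq_eq_true h1)
  · exfalso
    rw [S.code_eq hg hF hn] at h1
    simp at h1

/-- different patterns -/
theorem Sys.eq_one (S : Sys ψ R x tb) {g : T} (hg : g * x = x * g) {F lit : List ℕ} (hF : Fix ψ g F)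
    (hn : ∀ f ∈ F, f < n) (k : ℕ) (h : (List.range n).map (code R tb F k) = lit) (hl : lit.Nodup) : g = 1 := by
  apply S.inj
  rw [map_one]
  ext i : 1
  rw [Perm.one_apply]
  apply Fin.ext
  rw [← h] at hl
  exact List.inj_on_of_nodup_map hl (List.mem_range.2 (ψ g i).2) (List.mem_range.2 i.2) (S.code_eq hg hF hn k i)

/-- the sum of `R v f` over the fixed points `f` of `x` -/
theorem Sys.fsum_eq (S : Sys ψ R x tb) {g : T} (hg : g * x = x * g) (i : Fin n) :
    (∑ f ∈ Finset.univ.filter fun f : Fin n => ψ x f = f, R (ψ g i : Fin n) f) =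
      ∑ f ∈ Finset.univ.filter fun f : Fin n => ψ x f = f, R i f := by
  symm
  apply Finset.sum_equiv (ψ g)
  · intro f
    simp only [Finset.mem_filter, Finset.mem_univ, true_and]
    rw [← S.comm hg, (ψ g).injective.eq_iff]
  · intro f _
    exact (S.rel g i f).symm

/-- **the bound** -/
theorem Sys.card_cent_le (S : Sys ψ R x tb) (iv : ℕ → ℕ)
    (hiv : ∀ g : T, g * x = x * g → ∀ i : Fin n, iv (ψ g i : Fin n) = iv i) (b : Fin n) {m : ℕ}
    (hc : ((List.range n).filter fun b' => Nat.beq (iv b') (iv b)).length ≤ m)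
    (h1 : ∀ g : T, g * x = x * g → ψ g b = b → g = 1) :
    Finite ↥(centralizer ({x} : Set T)) ∧ Nat.card ↥(centralizer ({x} : Set T)) ≤ m := by
  classical
  let L := (List.range n).filter fun b' => Nat.beq (iv b') (iv b)
  have hL : L.Nodup := List.Nodup.filter _ List.nodup_range
  let f : ↥(centralizer ({x} : Set T)) → {i : ℕ // i ∈ L.toFinset} := fun g => ⟨((ψ g.1 b : Fin n) : ℕ), by
    rw [List.mem_toFinset]
    refine List.mem_filter.2 ⟨List.mem_range.2 (ψ g.1 b).2, ?_⟩
    rw [hiv _ (mem_centralizer_singleton_iff.1 g.2) b]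
    exact Nat.beq_refl _⟩
  have hf : Function.Injective f := by
    intro g h hgh
    have h2 : ψ g.1 b = ψ h.1 b := Fin.ext (congrArg Subtype.val hgh)
    have h3 := mem_centralizer_singleton_iff.1 (g⁻¹ * h).2
    have h4 : (g⁻¹ * h : ↥(centralizer ({x} : Set T))).1 = 1 := by
      apply h1 _ h3
      have : ((g⁻¹ * h : ↥(centralizer ({x} : Set T))) : T) = (g : T)⁻¹ * (h : T) := rfl
      rw [this, map_mul, Perm.mul_apply, ← h2, map_inv]
      simp
    have h5 : g⁻¹ * h = 1 := Subtype.ext h4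
    exact inv_mul_eq_one.1 h5
  refine ⟨Finite.of_injective f hf, ?_⟩
  refine (Nat.card_le_card_of_injective f hf).trans ?_
  rw [Nat.card_eq_fintype_card, Fintype.card_coe, List.toFinset_card_of_nodup hL]
  exact hc

end Cfsg.Agent.H904.CentChk

private theorem dce_a5e6fb705d12 : _root_.True := by
  try have : _root_.True := by simp only [_root_.Cfsg.Agent.H904.CentChk.cyc.eq_2]
  try have : _root_.True := by simp only [_root_.Cfsg.Agent.H904.CentChk.cyc.eq_1]
  try have : _root_.True := by simp only [_root_.Cfsg.Agent.H904.CentChk.cyc.eq_def]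
  exact _root_.True.intro
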